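import Mathlib.RingTheory.Jacobson.Radical
import Mathlib.RingTheory.Jacobson.Semiprimary
import Mathlib.RingTheory.SimpleModule.WedderburnArtin
import Mathlib.RingTheory.SimpleModule.Isotypic
import Mathlib.RingTheory.Length
import Mathlib.RingTheory.TwoSidedIdeal.Operations
import Mathlib.Algebra.Module.Projective
import Mathlib.Algebra.Module.Torsion.Basic
import Mathlib.RingTheory.Finiteness.Projective

/-!
# Projective modules over a ring with simple artinian quotient by its Jacobson radical
-/

set_option autoImplicit false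

universe u v

namespace Groth.Agent.Lib.StrongLocal

open Submodule

variable {A : Type u} [Ring A]
variable {P : Type v} [AddCommGroup P] [Module A P]
variable {Q : Type v} [AddCommGroup Q] [Module A Q]

local notation "J" => Ring.jacobson A
local notation "JJ" P:max => (Ring.jacobson A • (⊤ : Submodule A P) : Submodule A P)

theorem map_mem (f : P →ₗ[A] Q) {x : P} (hx : x ∈ JJ P) : f x ∈ JJ Q := by
  have h : Submodule.map f (JJ P) ≤ JJ Q := by
    rw [Submodule.map_smul'']
    exact smul_mono_right _ le_top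
  exact h ⟨x, hx, rfl⟩

theorem surjective_of_mod [Module.Finite A Q] (f : P →ₗ[A] Q)
    (h : LinearMap.range f ⊔ JJ Q = ⊤) : Function.Surjective f := by
  rw [← LinearMap.range_eq_top]
  have h2 : (⊤ : Submodule A (Q ⧸ LinearMap.range f)) ≤ J • ⊤ := by
    have := congrArg (Submodule.map (LinearMap.range f).mkQ) h
    rw [Submodule.map_sup, Submodule.map_smul'', Submodule.map_top, Submodule.range_mkQ,
      Submodule.mkQ_map_self, bot_sup_eq] at this
    exact this.ge
  have h3 := Submodule.FG.eq_bot_of_le_jacobson_smul Module.Finite.fg_top h2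
  rwa [← Submodule.subsingleton_iff_eq_bot, Submodule.subsingleton_iff_eq_bot,
    eq_comm, subsingleton_iff_bot_eq_top, Submodule.subsingleton_iff,
    Submodule.Quotient.subsingleton_iff] at h3

theorem bijective_of_mod [Module.Finite A P] [Module.Finite A Q] [Module.Projective A Q]
    (f : P →ₗ[A] Q) (h : LinearMap.range f ⊔ JJ Q = ⊤) (hi : ∀ x, f x ∈ JJ Q → x ∈ JJ P) :
    Function.Bijective f := by
  have hs := surjective_of_mod f h
  refine ⟨?_, hs⟩
  obtain ⟨s, hfs⟩ := Module.projective_lifting_property f LinearMap.id hs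
  let π : P →ₗ[A] P := LinearMap.id - s ∘ₗ f
  have hr : LinearMap.range π = LinearMap.ker f := by
    refine le_antisymm ?_ fun x hx => ⟨x, ?_⟩
    · rintro _ ⟨x, rfl⟩
      have := LinearMap.congr_fun hfs (f x)
      simp only [LinearMap.comp_apply, LinearMap.id_apply] at this
      simp [π, this]
    · simp [π, LinearMap.mem_ker.1 hx]
  have hfg : (LinearMap.ker f).FG := hr ▸ by
    rw [← Submodule.map_top]; exact Module.Finite.fg_top.map π
  rw [← LinearMap.ker_eq_bot]
  refine Submodule.FG.eq_bot_of_le_jacobson_smul hfg fun x hx => ?_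
  have hx' : x ∈ JJ P := hi x (by rw [LinearMap.mem_ker.1 hx]; exact zero_mem _)
  have h4 : Submodule.map π (JJ P) ≤ J • LinearMap.ker f := by
    rw [Submodule.map_smul'', Submodule.map_top, hr]
  have hπ : π x = x := by simp [π, LinearMap.mem_ker.1 hx]
  exact hπ ▸ h4 ⟨x, hx', rfl⟩

variable (A P) in
/-- Reduction modulo the Jacobson radical. -/
abbrev Red : Type v := P ⧸ (JJ P)

theorem red_smul (b : A ⧸ J) (r : A) (h : Ideal.Quotient.mk J r = b) (v : Red A P) :
    b • v = r • v := by
  subst h
  obtain ⟨x, rfl⟩ := Submodule.Quotient.mk_surjective _ v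
  rfl

instance finite_red [Module.Finite A P] : Module.Finite (A ⧸ J) (Red A P) := by
  have : Module.Finite A (Red A P) := inferInstance
  obtain ⟨s, hs⟩ := this.fg_top
  refine ⟨⟨s, eq_top_iff.2 fun v _ => ?_⟩⟩
  have hv : v ∈ Submodule.span A (s : Set (Red A P)) := hs ▸ trivial
  clear ‹v ∈ (⊤ : Submodule (A ⧸ J) (Red A P))›
  induction hv using Submodule.span_induction with
  | mem x hx => exact Submodule.subset_span hx
  | zero => exact zero_mem _
  | add x y _ _ hx hy => exact add_mem hx hy
  | smul r x _ hx =>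
    rw [← red_smul (Ideal.Quotient.mk J r) r rfl x]
    exact Submodule.smul_mem _ _ hx

/-- Functoriality of the reduction. -/
noncomputable def redMap (f : P →ₗ[A] Q) : Red A P →ₗ[A ⧸ J] Red A Q where
  toFun := Submodule.mapQ (JJ P) (JJ Q) f fun _ hx => map_mem f hx
  map_add' x y := map_add _ x y
  map_smul' b v := by
    obtain ⟨r, rfl⟩ := Ideal.Quotient.mk_surjective b
    rw [red_smul _ r rfl, RingHom.id_apply, red_smul _ r rfl, map_smul]

@[simp]
theorem redMap_mk (f : P →ₗ[A] Q) (x : P) :
    redMap f (Submodule.Quotient.mk x) = Submodule.Quotient.mk (f x) := rfl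

theorem exists_redMap_eq [Module.Projective A P] (g : Red A P →ₗ[A ⧸ J] Red A Q) :
    ∃ f : P →ₗ[A] Q, redMap f = g := by
  let g' : Red A P →ₗ[A] Red A Q :=
    { toFun := g
      map_add' := map_add g
      map_smul' := fun r v => by
        rw [← red_smul _ r rfl v, map_smul, red_smul _ r rfl, RingHom.id_apply] }
  obtain ⟨f, hf⟩ := Module.projective_lifting_property (JJ Q).mkQ (g' ∘ₗ (JJ P).mkQ)
    (Submodule.mkQ_surjective _)
  refine ⟨f, LinearMap.ext fun v => ?_⟩
  obtain ⟨x, rfl⟩ := Submodule.Quotient.mk_surjective _ v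
  exact LinearMap.congr_fun hf x

theorem bijective_of_redMap [Module.Finite A P] [Module.Finite A Q] [Module.Projective A Q]
    (f : P →ₗ[A] Q) (h : Function.Bijective (redMap f)) : Function.Bijective f := by
  refine bijective_of_mod f (eq_top_iff.2 fun y _ => ?_) fun x hx => ?_
  · obtain ⟨v, hv⟩ := h.2 (Submodule.Quotient.mk y)
    obtain ⟨x, rfl⟩ := Submodule.Quotient.mk_surjective _ v
    rw [redMap_mk, Submodule.Quotient.eq] at hv
    rw [show y = f x - (f x - y) by abel]
    exact sub_mem (Submodule.mem_sup_left ⟨x, rfl⟩) (Submodule.mem_sup_right hv)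
  · rw [← Submodule.Quotient.mk_eq_zero]
    apply h.1
    rw [redMap_mk, map_zero, Submodule.Quotient.mk_eq_zero]
    exact hx

variable (A P) in
/-- Reduction of endomorphisms. -/
noncomputable def redEnd : Module.End A P →+* Module.End (A ⧸ J) (Red A P) where
  toFun := redMap
  map_one' := LinearMap.ext fun v => by
    obtain ⟨x, rfl⟩ := Submodule.Quotient.mk_surjective _ v
    simp only [redMap_mk, Module.End.one_apply]
  map_mul' f g := LinearMap.ext fun v => by
    obtain ⟨x, rfl⟩ := Submodule.Quotient.mk_surjective _ v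
    simp only [redMap_mk, Module.End.mul_apply]
  map_zero' := LinearMap.ext fun v => by
    obtain ⟨x, rfl⟩ := Submodule.Quotient.mk_surjective _ v
    simp only [redMap_mk, LinearMap.zero_apply, Submodule.Quotient.mk_zero]
  map_add' f g := LinearMap.ext fun v => by
    obtain ⟨x, rfl⟩ := Submodule.Quotient.mk_surjective _ v
    simp only [redMap_mk, LinearMap.add_apply, Submodule.Quotient.mk_add]

theorem redEnd_surjective [Module.Projective A P] : Function.Surjective (redEnd A P) :=
  exists_redMap_eq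

variable [IsSimpleRing (A ⧸ Ring.jacobson A)] [IsArtinianRing (A ⧸ Ring.jacobson A)]

instance : IsSemisimpleRing (A ⧸ J) :=
  (IsSimpleRing.isSemisimpleRing_iff_isArtinianRing).2 inferInstance

theorem ker_redEnd [Module.Finite A P] [Module.Projective A P] :
    RingHom.ker (redEnd A P) = Ring.jacobson (Module.End A P) := by
  refine le_antisymm ?_ ?_
  · rw [Ring.jacobson_eq_sInf_isMaximal (Module.End A P)]
    refine le_sInf fun m hm' => ?_
    have hm : m.IsMaximal := hm'
    by_contra hle
    obtain ⟨k, hk, x, hx, hkx⟩ := Submodule.mem_sup.1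
      ((hm.out.2 _ (right_lt_sup.2 hle)).symm ▸ Submodule.mem_top (x := (1 : Module.End A P)) :
        (1 : Module.End A P) ∈ RingHom.ker (redEnd A P) ⊔ m)
    have hx1 : redMap x = LinearMap.id := by
      have := congrArg (redEnd A P) hkx
      rw [map_add, RingHom.mem_ker.1 hk, zero_add, map_one] at this
      exact this
    have hu : IsUnit x := (Module.End.isUnit_iff x).2
      (bijective_of_redMap x (by rw [hx1]; exact Function.bijective_id))
    exact hm.ne_top (Ideal.eq_top_of_isUnit_mem _ hx hu)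
  · intro f hf
    have : RingHomSurjective (redEnd A P) := ⟨redEnd_surjective⟩
    have h := Ring.le_comap_jacobson (redEnd A P) hf
    have : IsSemisimpleRing (Module.End (A ⧸ J) (Red A P)) :=
      IsSemisimpleRing.moduleEnd (A ⧸ J) (Red A P)
    rw [Ideal.mem_comap, IsSemisimpleRing.jacobson_eq_bot (Module.End (A ⧸ J) (Red A P)), Submodule.mem_bot] at h
    exact h

section count

variable {B : Type u} [Ring B] {V : Type v} [AddCommGroup V] [Module B V]

/-- `n` non-zero orthogonal idempotent endomorphisms force length at least `n`. -/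
theorem le_length_of_orthogonal {n : ℕ} (e : Fin n → Module.End B V)
    (hidem : ∀ i, e i * e i = e i) (horth : ∀ i j, i ≠ j → e i * e j = 0) (hne : ∀ i, e i ≠ 0) :
    (n : ℕ∞) ≤ Module.length B V := by
  classical
  let φ : V →ₗ[B] (Π i, LinearMap.range (e i)) := LinearMap.pi fun i => (e i).rangeRestrict
  have hφ : Function.Surjective φ := by
    intro w
    refine ⟨∑ j, (w j : V), funext fun i => Subtype.ext ?_⟩
    change e i (∑ j, (w j : V)) = w i
    rw [map_sum, Finset.sum_eq_single i]
    · obtain ⟨a, ha⟩ := (w i).2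
      rw [← ha]
      exact LinearMap.congr_fun (hidem i) a
    · intro j _ hji
      obtain ⟨a, ha⟩ := (w j).2
      rw [← ha]
      exact LinearMap.congr_fun (horth i j (Ne.symm hji)) a
    · simp
  refine le_trans ?_ (Module.length_le_of_surjective φ hφ)
  rw [Module.length_pi_of_fintype]
  calc (n : ℕ∞) = ∑ _i : Fin n, (1 : ℕ∞) := by simp
    _ ≤ _ := Finset.sum_le_sum fun i _ => by
      rw [Order.one_le_iff_pos, Module.length_pos_iff, Submodule.nontrivial_iff_ne_bot]
      exact fun h => hne i (LinearMap.range_eq_bot.1 h)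

/-- `(Fin p → S)` has `p` non-zero orthogonal idempotents. -/
theorem exists_orthogonal {S : Type*} [AddCommGroup S] [Module B S] [Nontrivial S] {p : ℕ}
    (e : V ≃ₗ[B] (Fin p → S)) :
    ∃ a : Fin p → Module.End B V,
      (∀ i, a i * a i = a i) ∧ (∀ i j, i ≠ j → a i * a j = 0) ∧ ∀ i, a i ≠ 0 := by
  classical
  refine ⟨fun i => e.symm.toLinearMap ∘ₗ LinearMap.single B (fun _ => S) i ∘ₗ
    LinearMap.proj i ∘ₗ e.toLinearMap, fun i => ?_, fun i j hij => ?_, fun i h => ?_⟩
  · ext v; simp
  · ext v; simp [hij]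
  · obtain ⟨s, hs⟩ := exists_ne (0 : S)
    have := LinearMap.congr_fun h (e.symm (Pi.single i s))
    simp [hs] at this

theorem isSimpleModule_equiv [IsSimpleRing B] [IsSemisimpleRing B] (S : Type*) (T : Type*)
    [AddCommGroup S] [Module B S] [IsSimpleModule B S] [AddCommGroup T] [Module B T]
    [IsSimpleModule B T] : Nonempty (S ≃ₗ[B] T) := by
  let eS : S ≃ₗ[B] LinearMap.range (LinearMap.inl B S T) :=
    LinearEquiv.ofInjective _ LinearMap.inl_injective
  let eT : T ≃ₗ[B] LinearMap.range (LinearMap.inr B S T) :=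
    LinearEquiv.ofInjective _ LinearMap.inr_injective
  have := IsSimpleModule.congr eS.symm
  have := IsSimpleModule.congr eT.symm
  obtain ⟨h⟩ := IsSimpleRing.isIsotypic B (S × T) (LinearMap.range (LinearMap.inl B S T))
    (LinearMap.range (LinearMap.inr B S T))
  exact ⟨eS.trans (h.symm.trans eT.symm)⟩

theorem exists_fun_equiv [IsSimpleRing B] [IsSemisimpleRing B] (S : Type*) [AddCommGroup S]
    [Module B S] [IsSimpleModule B S] [Module.Finite B V] :
    ∃ p : ℕ, Nonempty (V ≃ₗ[B] (Fin p → S)) :=
  IsIsotypicOfType.linearEquiv_fun (S := S) fun m _ => isSimpleModule_equiv m S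

end count

theorem nonempty_equiv_of_endEquiv [Module.Finite A P] [Module.Projective A P] [Module.Finite A Q]
    [Module.Projective A Q] (e : Module.End A P ≃+* Module.End A Q) :
    Nonempty (P ≃ₗ[A] Q) := by
  obtain ⟨S, hS⟩ := IsSemisimpleModule.exists_simple_submodule (A ⧸ J) (A ⧸ J)
  have : Nontrivial S := IsSimpleModule.nontrivial (A ⧸ J) S
  obtain ⟨p, ⟨ep⟩⟩ := exists_fun_equiv (B := A ⧸ J) (V := Red A P) S
  obtain ⟨q, ⟨eq⟩⟩ := exists_fun_equiv (B := A ⧸ J) (V := Red A Q) S
  have hlen : ∀ n : ℕ, Module.length (A ⧸ J) (Fin n → S) = n := fun n => by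
    simp [Module.length_eq_one]
  have key : ∀ {P' Q' : Type v} [AddCommGroup P'] [Module A P'] [AddCommGroup Q'] [Module A Q']
      [Module.Finite A P'] [Module.Projective A P'] [Module.Finite A Q'] [Module.Projective A Q']
      (_ : Module.End A P' ≃+* Module.End A Q') {a b : ℕ}
      (_ : Red A P' ≃ₗ[A ⧸ J] (Fin a → S)) (_ : Red A Q' ≃ₗ[A ⧸ J] (Fin b → S)), a ≤ b := by
    intro P' Q' _ _ _ _ _ _ _ _ e' a b ea eb
    obtain ⟨x, hx1, hx2, hx3⟩ := exists_orthogonal ea
    choose y hy using fun i => redEnd_surjective (x i)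
    have hker : ∀ {z : Module.End A P'}, redEnd A P' z = 0 ↔ redEnd A Q' (e' z) = 0 := fun {z} => by
      rw [← RingHom.mem_ker, ← RingHom.mem_ker, ker_redEnd, ker_redEnd]
      constructor
      · intro hz
        have : RingHomSurjective (e' : Module.End A P' →+* Module.End A Q') := ⟨e'.surjective⟩
        exact Ring.le_comap_jacobson (e' : Module.End A P' →+* Module.End A Q') hz
      · intro hz
        have : RingHomSurjective (e'.symm : Module.End A Q' →+* Module.End A P') :=
          ⟨e'.symm.surjective⟩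
        have := Ring.le_comap_jacobson (e'.symm : Module.End A Q' →+* Module.End A P') hz
        simpa using this
    have h := le_length_of_orthogonal (fun i => redEnd A Q' (e' (y i))) (fun i => ?_)
      (fun i j hij => ?_) (fun i h => ?_)
    · rw [eb.length_eq, hlen] at h
      exact_mod_cast h
    · rw [← sub_eq_zero, ← map_mul, ← map_mul, ← map_sub, ← map_sub]
      exact hker.1 (by rw [map_sub, map_mul, hy, hx1, sub_self])
    · rw [← map_mul, ← map_mul]
      exact hker.1 (by rw [map_mul, hy, hy, hx2 i j hij])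
    · exact hx3 i ((hy i).symm.trans (hker.2 h))
  obtain rfl : p = q := le_antisymm (key e ep eq) (key e.symm eq ep)
  obtain ⟨f, hf⟩ := exists_redMap_eq (ep.trans eq.symm).toLinearMap
  exact ⟨LinearEquiv.ofBijective f (bijective_of_redMap f (hf ▸ (ep.trans eq.symm).bijective))⟩

theorem exists_eq_sum_dual [Module.Finite A P] [Module.Projective A P] [Nontrivial P] :
    (1 : A) ∈ Submodule.span A {a : A | ∃ (φ : P →ₗ[A] A) (x : P), φ x = a} := by
  set T : Ideal A := Submodule.span A {a : A | ∃ (φ : P →ₗ[A] A) (x : P), φ x = a} with hT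
  have h2 : T.IsTwoSided := ⟨fun {a} b ha => by
    induction ha using Submodule.span_induction with
    | mem a ha =>
      obtain ⟨φ, x, rfl⟩ := ha
      exact Submodule.subset_span ⟨LinearMap.toSpanSingleton A A b ∘ₗ φ, x, by simp⟩
    | zero => simp
    | add x y _ _ hx hy => rw [add_mul]; exact add_mem hx hy
    | smul r x _ hx => rw [smul_eq_mul, mul_assoc]; exact T.mul_mem_left r hx⟩
  have hout : ∃ t ∈ T, t ∉ J := by
    by_contra h
    push Not at h
    obtain ⟨n, f, g, hfg, -, hgf⟩ := Module.Finite.exists_comp_eq_id_of_projective A P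
    have htop : (⊤ : Submodule A P) ≤ J • ⊤ := by
      intro x _
      have hx : x = ∑ i, g x i • f (Pi.single i 1) := by
        conv_lhs => rw [show x = f (g x) from (LinearMap.congr_fun hgf x).symm,
          pi_eq_sum_univ' (g x), map_sum]
        simp [map_smul]
      rw [hx]
      exact Submodule.sum_mem _ fun i _ => Submodule.smul_mem_smul
        (h _ (Submodule.subset_span ⟨LinearMap.proj i ∘ₗ g, x, rfl⟩)) trivial
    exact bot_ne_top (Submodule.FG.eq_bot_of_le_jacobson_smul Module.Finite.fg_top htop).symm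
  obtain ⟨t, ht, htJ⟩ := hout
  let T' : TwoSidedIdeal (A ⧸ J) := TwoSidedIdeal.mk' {c | ∃ a ∈ T, Ideal.Quotient.mk J a = c}
    ⟨0, zero_mem _, map_zero _⟩
    (by rintro _ _ ⟨a, ha, rfl⟩ ⟨b, hb, rfl⟩; exact ⟨a + b, add_mem ha hb, map_add _ a b⟩)
    (by rintro _ ⟨a, ha, rfl⟩; exact ⟨-a, neg_mem ha, map_neg _ a⟩)
    (by
      rintro c _ ⟨a, ha, rfl⟩
      obtain ⟨r, rfl⟩ := Ideal.Quotient.mk_surjective c
      exact ⟨r * a, T.mul_mem_left r ha, map_mul _ r a⟩)
    (by
      rintro _ c ⟨a, ha, rfl⟩
      obtain ⟨r, rfl⟩ := Ideal.Quotient.mk_surjective c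
      exact ⟨a * r, h2.mul_mem_of_left r ha, map_mul _ a r⟩)
  have hmem : ∀ c, c ∈ T' ↔ ∃ a ∈ T, Ideal.Quotient.mk J a = c := fun c =>
    TwoSidedIdeal.mem_mk' _ _ _ _ _ _ c
  have h1 := IsSimpleRing.one_mem_of_ne_zero_mem T'
    (x := Ideal.Quotient.mk J t) (fun h => htJ (Ideal.Quotient.eq_zero_iff_mem.1 h))
    ((hmem _).2 ⟨t, ht, rfl⟩)
  obtain ⟨a, ha, ha1⟩ := (hmem _).1 h1
  rw [← map_one (Ideal.Quotient.mk J), Ideal.Quotient.eq] at ha1
  by_contra hne
  obtain ⟨m, hm, hle⟩ := Ideal.exists_le_maximal T fun h => hne (h ▸ trivial)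
  have := sub_mem (hle ha) (Ring.jacobson_le_of_isMaximal m ha1)
  exact hm.ne_top (Ideal.eq_top_of_isUnit_mem _ (by simpa using this) isUnit_one)

theorem eq_zero_of_smul_eq_zero [Module.Finite A P] [Module.Projective A P] [Nontrivial P] {c : A}
    (hc : ∀ x : P, c • x = 0) : c = 0 := by
  have h : ∀ a ∈ Submodule.span A {a : A | ∃ (φ : P →ₗ[A] A) (x : P), φ x = a}, ∀ r, c * r * a = 0 := by
    intro a ha
    induction ha using Submodule.span_induction with
    | mem a ha =>
      obtain ⟨φ, x, rfl⟩ := ha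
      intro r
      have := congrArg φ (hc (r • x))
      simpa [mul_assoc] using this
    | zero => simp
    | add x y _ _ hx hy => intro r; rw [mul_add, hx, hy, add_zero]
    | smul s x _ hx => intro r; rw [smul_eq_mul, ← mul_assoc, mul_assoc c r s]; exact hx (r * s)
  simpa using h 1 exists_eq_sum_dual 1

theorem existsUnique_central [Module.Finite A P] [Module.Projective A P] [Nontrivial P]
    (u : P →ₗ[A] P) (hu : ∀ f : Module.End A P, u ∘ₗ f = f ∘ₗ u) :
    ∃! a : A, (∀ b : A, a * b = b * a) ∧ ∀ x : P, u x = a • x := by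
  have h : ∀ t ∈ Submodule.span A {a : A | ∃ (φ : P →ₗ[A] A) (x : P), φ x = a},
      ∀ r : A, ∃ a : A, ∀ y : P, (r * t) • u y = a • y := by
    intro t ht
    induction ht using Submodule.span_induction with
    | mem t ht =>
      obtain ⟨φ, x, rfl⟩ := ht
      intro r
      refine ⟨φ (u (r • x)), fun y => ?_⟩
      have := LinearMap.congr_fun (hu (LinearMap.toSpanSingleton A P y ∘ₗ φ)) (r • x)
      simpa [map_smul, mul_smul] using this
    | zero => exact fun r => ⟨0, by simp⟩
    | add x y _ _ hx hy =>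
      intro r
      obtain ⟨a, ha⟩ := hx r
      obtain ⟨b, hb⟩ := hy r
      exact ⟨a + b, fun z => by rw [mul_add, add_smul, ha, hb, add_smul]⟩
    | smul s x _ hx =>
      intro r
      obtain ⟨a, ha⟩ := hx (r * s)
      exact ⟨a, fun z => by rw [smul_eq_mul, ← mul_assoc]; exact ha z⟩
  obtain ⟨a, ha⟩ := h 1 exists_eq_sum_dual 1
  simp only [mul_one, one_smul] at ha
  refine ⟨a, ⟨fun b => sub_eq_zero.1 (eq_zero_of_smul_eq_zero (P := P) fun x => ?_), ha⟩,
    fun a' ha' => sub_eq_zero.1 (eq_zero_of_smul_eq_zero (P := P) fun x => ?_)⟩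
  · rw [sub_smul, mul_smul, mul_smul, ← ha, ← ha, map_smul, sub_self]
  · rw [sub_smul, ← ha, ← ha'.2, sub_self]

end Groth.Agent.Lib.StrongLocal
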